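import Mathlib
import Cfsg.Agent.Lib.POmegaDiag.Quot
import Cfsg.Agent.Lib.POmegaDiag.Classes
import Cfsg.Agent.Lib.Orth.Siegel

/-!
Improper similarities whose square is a scalar.
-/

set_option autoImplicit false
set_option linter.style.haveILetI false
set_option linter.unusedSectionVars false

namespace Cfsg.Agent.Lib.POmegaDiag

open QuadraticMap Matrix Module

universe u

variable {F : Type u} [Field F] {ι : Type} [Fintype ι] [DecidableEq ι]

theorem charpoly_mul_neg {G : Matrix ι ι F} {ν : F} (h : G * G = ν • (1 : Matrix ι ι F)) :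
    G.charpoly * (-G).charpoly = (Polynomial.X ^ 2 - Polynomial.C ν) ^ Fintype.card ι := by
  rw [Matrix.charpoly, Matrix.charpoly, ← det_mul]
  have hA : (Polynomial.C (R := F)).mapMatrix G * (Polynomial.C (R := F)).mapMatrix G
      = Matrix.scalar ι (Polynomial.C ν) := by
    rw [← map_mul, h]
    ext1 i j
    rcases eq_or_ne i j with rfl | hij <;> simp [*, Matrix.scalar_apply]
  have hc : Matrix.scalar ι (Polynomial.X : Polynomial F) * (Polynomial.C (R := F)).mapMatrix G
      = (Polynomial.C (R := F)).mapMatrix G * Matrix.scalar ι (Polynomial.X : Polynomial F) :=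
    Matrix.scalar_commute _ (fun _ => Commute.all _ _) _
  have : charmatrix G * charmatrix (-G) = Matrix.scalar ι (Polynomial.X ^ 2 - Polynomial.C ν) := by
    simp only [charmatrix]
    rw [map_neg, sub_neg_eq_add, sub_mul, mul_add, mul_add, hA, ← hc, map_sub, pow_two, map_mul]
    abel
  rw [this, Matrix.scalar_apply, det_diagonal, Finset.prod_const, Finset.card_univ]

theorem det_of_charpoly_neg (h2 : (2 : F) ≠ 0) {n : ℕ} (hn : Fintype.card ι = 2 * n) {G : Matrix ι ι F} {ν : F}
    (h : G * G = ν • (1 : Matrix ι ι F)) (hc : (-G).charpoly = G.charpoly) : G.det = (-ν) ^ n := by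
  have h1 := charpoly_mul_neg h
  rw [hc, hn, mul_comm 2 n, pow_mul, ← pow_two, sq_eq_sq_iff_eq_or_eq_neg] at h1
  have hm : ((Polynomial.X ^ 2 - Polynomial.C ν) ^ n).Monic :=
    (Polynomial.monic_X_pow_sub_C ν two_ne_zero).pow n
  rcases h1 with h1 | h1
  · rw [Matrix.det_eq_sign_charpoly_coeff, h1, hn, pow_mul, neg_one_sq, one_pow, one_mul,
      Polynomial.coeff_zero_eq_eval_zero]
    simp
  · exfalso
    have h3 := congrArg Polynomial.leadingCoeff h1
    rw [Polynomial.leadingCoeff_neg, hm.leadingCoeff, (Matrix.charpoly_monic G).leadingCoeff] at h3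
    exact h2 (by linear_combination h3)

theorem det_of_nonsquare {n : ℕ} (hn : Fintype.card ι = 2 * n) {G : Matrix ι ι F} {ν : F}
    (h : G * G = ν • (1 : Matrix ι ι F)) (hν : ¬ IsSquare ν) : G.det = (-ν) ^ n := by
  have hirr : Irreducible (Polynomial.X ^ 2 - Polynomial.C ν) :=
    X_pow_sub_C_irreducible_of_prime Nat.prime_two fun r hr => hν ⟨r, by rw [← hr, pow_two]⟩
  have hd : G.charpoly ∣ (Polynomial.X ^ 2 - Polynomial.C ν) ^ Fintype.card ι :=
    Dvd.intro _ (charpoly_mul_neg h)
  obtain ⟨i, -, hi⟩ := (dvd_prime_pow hirr.prime _).1 hd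
  have he : G.charpoly = (Polynomial.X ^ 2 - Polynomial.C ν) ^ i :=
    Polynomial.eq_of_monic_of_associated (Matrix.charpoly_monic G)
      ((Polynomial.monic_X_pow_sub_C ν two_ne_zero).pow i) hi
  have hin : i = n := by
    have := congrArg Polynomial.natDegree he
    rw [Matrix.charpoly_natDegree_eq_dim, Polynomial.natDegree_pow, Polynomial.natDegree_X_pow_sub_C, hn] at this
    omega
  rw [Matrix.det_eq_sign_charpoly_coeff, he, hin, hn, pow_mul, neg_one_sq, one_pow, one_mul,
    Polynomial.coeff_zero_eq_eval_zero]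
  simp

variable [Fintype F] {Q : QuadraticForm F (ι → F)}

namespace EvenForm

variable {n : ℕ} (E : EvenForm Q n)
include E

theorem exists_nonsquare' : ∃ c : Fˣ, qsign c = -1 := by
  obtain ⟨d, hd⟩ := FiniteField.exists_nonsquare (F := F) E.ringChar_ne_two
  exact ⟨Units.mk0 d fun h => hd (h ▸ IsSquare.zero), (E.qsign_neg_iff _).2 hd⟩

theorem six_le : 6 ≤ Fintype.card ι := by
  obtain ⟨e, f, hf⟩ := E.frame
  have hli : LinearIndependent F e := Fintype.linearIndependent_iff.2 fun c hc i => by
    have h := congrArg (fun x => Q.polarBilin x (f i)) hc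
    simp only [map_sum, LinearMap.sum_apply, map_smul, LinearMap.smul_apply,
      QuadraticMap.polarBilin_apply_apply, hf.ef, smul_eq_mul, mul_ite, mul_one, mul_zero,
      Finset.sum_ite_eq', Finset.mem_univ, if_true, map_zero, LinearMap.zero_apply] at h
    exact h
  have hts : Cfsg.Geo.IsTotallySingularQuad ⇑Q (Submodule.span F (Set.range e)) := fun x hx => by
    obtain ⟨c, rfl⟩ := (Submodule.mem_span_range_iff_exists_fun F).1 hx
    simp only [Fin.sum_univ_three, QuadraticMap.map_add (⇑Q), QuadraticMap.map_smul, polar_add_left,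
      polar_smul_left, polar_smul_right, hf.qe, hf.ee, smul_zero, add_zero]
  have h := two_mul_finrank_le E.two E.nondeg hts
  rw [finrank_span_eq_card hli, Fintype.card_fin] at h
  omega

theorem refl_smul {v : ι → F} {s : F} (hv : Q v ≠ 0) (hsv : Q (s • v) ≠ 0) :
    Orth.refl Q (s • v) hsv = Orth.refl Q v hv := by
  have hs : s ≠ 0 := fun h => hsv (by rw [h, zero_smul, QuadraticMap.map_zero])
  refine Orth.isometry_ext fun x => ?_
  rw [Orth.app_refl, Orth.app_refl, QuadraticMap.map_smul, polar_smul_left, smul_eq_mul, smul_eq_mul, smul_smul]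
  congr 2
  field_simp

theorem refl_congr {v w : ι → F} (e : v = w) (hv : Q v ≠ 0) (hw : Q w ≠ 0) :
    Orth.refl Q v hv = Orth.refl Q w hw := by subst e; rfl

theorem refl_comm {v w : ι → F} (hv : Q v ≠ 0) (hw : Q w ≠ 0) (h : polar Q v w = 0) :
    Orth.refl Q v hv * Orth.refl Q w hw = Orth.refl Q w hw * Orth.refl Q v hv := by
  have h' : polar Q w v = 0 := by rw [polar_comm]; exact h
  refine Orth.isometry_ext fun x => ?_
  rw [Orth.app_mul, Orth.app_mul, Orth.app_refl, Orth.app_refl, Orth.app_refl, Orth.app_refl]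
  simp only [polar_sub_right, polar_smul_right, h, h', smul_zero, sub_zero]
  abel

/-- the multiplier and the square of an improper similarity with scalar square -/
theorem sv_sq_improper {g : Sim Q} (hg : E.proper g = -1) {l : Fˣ} (hl : g * g = scal l) : l = mult g := by
  have h1 := congrArg E.muHom hl
  rw [map_mul, muHom_apply, muHom_apply, E.mult_scal] at h1
  have h2 : (l : F) * (l : F) = (mult g : F) * (mult g : F) := by
    rw [← Units.val_mul, ← Units.val_mul, h1]
  rcases mul_self_eq_mul_self_iff.1 h2 with h3 | h3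
  · exact Units.ext h3
  exfalso
  set G := ((g : GL ι F) : Matrix ι ι F) with hG
  have hGG : G * G = (-(mult g : F)) • (1 : Matrix ι ι F) := Matrix.ext_iff_mulVec.mpr fun v => by
    rw [← mulVec_mulVec]
    show sv g (sv g v) = _
    rw [← sv_mul, hl, E.sv_scal, h3, smul_mulVec, one_mulVec]
  have hskew : ∀ v x, polar Q (G *ᵥ v) x = - polar Q v (G *ᵥ x) := fun v x => by
    have h4 := polar_sv g v (sv g x)
    rw [← sv_mul, hl, E.sv_scal, h3, polar_smul_right, smul_eq_mul] at h4
    exact mul_left_cancel₀ (mult g).ne_zero (show (mult g : F) * polar Q (sv g v) x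
      = (mult g : F) * -polar Q v (sv g x) by linear_combination -h4)
  set B := LinearMap.toMatrix₂' F Q.polarBilin with hB
  have hBG : Gᵀ * B = B * (-G) := by
    have h5 : Q.polarBilin.compl₁₂ (Matrix.toLin' G) (LinearMap.id)
        = Q.polarBilin.compl₁₂ LinearMap.id (Matrix.toLin' (-G)) :=
      LinearMap.ext₂ fun v w => by
        simp only [LinearMap.compl₁₂_apply, Matrix.toLin'_apply, QuadraticMap.polarBilin_apply_apply,
          LinearMap.id_apply, neg_mulVec, polar_neg_right]
        exact hskew v w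
    have h6 := congrArg (LinearMap.toMatrix₂' F) h5
    rw [LinearMap.toMatrix₂'_compl₁₂, LinearMap.toMatrix₂'_compl₁₂, LinearMap.toMatrix'_toLin',
      LinearMap.toMatrix'_toLin', LinearMap.toMatrix'_id, Matrix.transpose_one, Matrix.one_mul,
      Matrix.mul_one] at h6
    exact h6
  have hdet : IsUnit B.det := isUnit_iff_ne_zero.2 fun h => by
    obtain ⟨v, hv0, hv⟩ := Matrix.exists_mulVec_eq_zero_iff.2 h
    refine hv0 (E.nondeg.2 v fun w => ?_)
    rw [← Matrix.toLinearMap₂'_toMatrix' (R := F) Q.polarBilin, Matrix.toLinearMap₂'_apply', ← hB, hv,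
      dotProduct_zero]
  obtain ⟨Bu, hBu⟩ := (Matrix.isUnit_iff_isUnit_det B).2 hdet
  have hc : (-G).charpoly = G.charpoly := by
    conv_lhs => rw [show -G = ((Bu⁻¹ : (Matrix ι ι F)ˣ) : Matrix ι ι F) * Gᵀ * (Bu : Matrix ι ι F) by
      rw [Matrix.mul_assoc, hBu, hBG, ← hBu, ← Matrix.mul_assoc, Units.inv_mul, Matrix.one_mul]]
    rw [Matrix.coe_units_inv, Matrix.charpoly_units_conj', Matrix.charpoly_transpose]
  have := det_of_charpoly_neg E.two E.dim hGG hc
  rw [neg_neg] at this
  rw [(E.proper_eq_one_iff g).2 this] at hg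
  exact absurd hg (by decide)

theorem sq_eq {g : Sim Q} (hg : E.proper g = -1) {l : Fˣ} (hl : g * g = scal l) :
    g * g = scal (mult g) := by rw [← E.sv_sq_improper hg hl]; exact hl

theorem mat_sq {g : Sim Q} (h : g * g = scal (mult g)) :
    ((g : GL ι F) : Matrix ι ι F) * ((g : GL ι F) : Matrix ι ι F) = (mult g : F) • (1 : Matrix ι ι F) :=
  Matrix.ext_iff_mulVec.mpr fun v => by
    rw [← mulVec_mulVec]
    show sv g (sv g v) = _
    rw [← sv_mul, h, E.sv_scal, smul_mulVec, one_mulVec]

theorem sv_sv {g : Sim Q} (h : g * g = scal (mult g)) (v : ι → F) : sv g (sv g v) = (mult g : F) • v := by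
  rw [← sv_mul, h, E.sv_scal]

theorem self_adjoint {g : Sim Q} (h : g * g = scal (mult g)) (v x : ι → F) :
    polar Q (sv g v) x = polar Q v (sv g x) := by
  have h4 := polar_sv g v (sv g x)
  rw [E.sv_sv h, polar_smul_right, smul_eq_mul] at h4
  exact mul_left_cancel₀ (mult g).ne_zero h4

/-- for `n` even, a proper similarity commuting with `g` up to scalars has square multiplier -/
theorem musgn_of_comm (hn : Even n) {g h : Sim Q} (hg : E.proper g = -1) (h2 : g * g = scal (mult g))
    (hc : simAut h * simAut g = simAut g * simAut h) : E.musgn h = 1 := by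
  by_contra hneg
  replace hneg : E.musgn h = -1 := (Int.units_eq_one_or _).resolve_left hneg
  set G := ((g : GL ι F) : Matrix ι ι F) with hG
  set μ := (mult g : F) with hμ
  have hbad : G.det ≠ (-μ) ^ n := fun hd => by
    rw [hn.neg_pow] at hd
    rw [(E.proper_eq_one_iff g).2 hd] at hg
    exact absurd hg (by decide)
  obtain ⟨c, hc'⟩ := E.exists_scal_of_simAut (g := h * g * (g * h)⁻¹)
    (by rw [map_mul, map_inv, map_mul, map_mul, hc, mul_inv_cancel])
  rw [mul_inv_eq_iff_eq_mul] at hc'
  have h1 := congrArg E.muHom hc'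
  rw [map_mul, map_mul, map_mul, muHom_apply, muHom_apply, muHom_apply, E.mult_scal, mul_comm (mult g)] at h1
  have h3 : (c : F) * (c : F) = 1 := by rw [← Units.val_mul, right_eq_mul.1 h1, Units.val_one]
  rcases mul_self_eq_one_iff.1 h3 with hc1 | hc1
  · rw [show c = 1 from Units.ext (by rw [hc1, Units.val_one]), map_one, one_mul] at hc'
    by_cases hsq : E.musgn g = 1
    · obtain ⟨s, a, rfl⟩ := E.exists_scal_mul hsq
      have had : Orth.detSign Q E.two E.nondeg a = -1 := by
        rwa [map_mul, E.proper_scal, one_mul, E.proper_ofIso] at hg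
      have hconj : E.conjS h a = a := E.ofIso_injective (by
        rw [E.ofIso_conjS, mul_inv_eq_iff_eq_mul]
        rw [← mul_assoc, ← E.scal_comm s h, mul_assoc, mul_assoc] at hc'
        exact mul_left_cancel hc')
      have := E.spinor_conjS h a
      rw [hconj, hneg, had] at this
      simp at this
    · exact hbad (det_of_nonsquare E.dim (E.mat_sq h2) fun hs => hsq (by
        rw [musgn_apply]; exact (E.qsign_one_iff _).2 hs))
  · refine hbad (det_of_charpoly_neg E.two E.dim (E.mat_sq h2) ?_)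
    have hm : ((h : GL ι F) : Matrix ι ι F) * G = -G * ((h : GL ι F) : Matrix ι ι F) :=
      Matrix.ext_iff_mulVec.mpr fun v => by
        rw [← mulVec_mulVec, ← mulVec_mulVec, neg_mulVec]
        show sv h (sv g v) = -(sv g (sv h v))
        rw [← sv_mul, ← sv_mul, hc', sv_mul, E.sv_scal, hc1, neg_one_smul]
    conv_lhs => rw [show -G = ((h : GL ι F) : Matrix ι ι F) * G * (((h : GL ι F)⁻¹ : GL ι F) : Matrix ι ι F) by
      rw [hm, Matrix.mul_assoc, Units.mul_inv, Matrix.mul_one]]
    rw [Matrix.coe_units_inv, Matrix.charpoly_units_conj]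

/-- two orthogonal anisotropic vectors in an eigenspace -/
theorem exists_eigen_pair {g : Sim Q} (h2 : g * g = scal (mult g)) {s : F} (hs : s * s = (mult g : F)) :
    ∃ (t : F) (v w : ι → F), sv g v = t • v ∧ sv g w = t • w ∧ Q v ≠ 0 ∧ Q w ≠ 0 ∧ polar Q v w = 0 := by
  have hs0 : s ≠ 0 := fun h0 => (mult g).ne_zero (by rw [← hs, h0, mul_zero])
  set L := ((g : GL ι F) : Matrix ι ι F).mulVecLin with hL
  let W : F → Submodule F (ι → F) := fun t => LinearMap.ker (L - t • LinearMap.id)
  have hW : ∀ t x, x ∈ W t ↔ sv g x = t • x := fun t x => by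
    simp [W, hL, sub_eq_zero]
  have hdec : ∀ x : ι → F, ∃ y z, y ∈ W s ∧ z ∈ W (-s) ∧ x = y + z := fun x => by
    refine ⟨(2 * s)⁻¹ • (s • x + sv g x), (2 * s)⁻¹ • (s • x - sv g x), (hW _ _).2 ?_, (hW _ _).2 ?_, ?_⟩
    · show ((g : GL ι F) : Matrix ι ι F) *ᵥ _ = _
      rw [mulVec_smul, mulVec_add, mulVec_smul]
      rw [show ((g : GL ι F) : Matrix ι ι F) *ᵥ sv g x = (mult g : F) • x from E.sv_sv h2 x, ← hs]
      module
    · show ((g : GL ι F) : Matrix ι ι F) *ᵥ _ = _
      rw [mulVec_smul, mulVec_sub, mulVec_smul]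
      rw [show ((g : GL ι F) : Matrix ι ι F) *ᵥ sv g x = (mult g : F) • x from E.sv_sv h2 x, ← hs]
      module
    · have := E.two
      match_scalars <;> field_simp <;> ring
  have horth : ∀ t, (t = s ∨ t = -s) → ∀ y ∈ W t, ∀ z ∈ W (-t), polar Q y z = 0 := fun t ht y hy z hz => by
    have h1 := E.self_adjoint h2 y z
    rw [(hW _ _).1 hy, (hW _ _).1 hz, polar_smul_left, polar_smul_right, smul_eq_mul, smul_eq_mul] at h1
    have ht0 : t ≠ 0 := by rcases ht with rfl | rfl <;> simp [hs0]
    have h4 : (2 * t) * polar Q y z = 0 := by linear_combination h1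
    exact (mul_eq_zero.1 h4).resolve_left (mul_ne_zero E.two ht0)
  have htop : W s ⊔ W (-s) = ⊤ := eq_top_iff.2 fun x _ => by
    obtain ⟨y, z, hy, hz, rfl⟩ := hdec x
    exact Submodule.add_mem_sup hy hz
  obtain ⟨t, ht, hdim⟩ : ∃ t, (t = s ∨ t = -s) ∧ 2 ≤ finrank F ↥(W t) := by
    have h1 := Submodule.finrank_add_le_finrank_add_finrank (W s) (W (-s))
    rw [htop, finrank_top, Module.finrank_fintype_fun_eq_card] at h1
    have h6 := E.six_le
    rcases Nat.lt_or_ge (finrank F ↥(W s)) 2 with h | h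
    · exact ⟨-s, Or.inr rfl, by omega⟩
    · exact ⟨s, Or.inl rfl, h⟩
  -- nothing in `W t` is orthogonal to `W t`
  have hrad : ∀ y ∈ W t, (∀ x ∈ W t, polar Q y x = 0) → y = 0 := fun y hy h => E.nondeg.1 y fun x => by
    show polar Q y x = 0
    obtain ⟨a, b, ha, hb, rfl⟩ := hdec x
    rw [polar_add_right]
    rcases ht with rfl | rfl
    · rw [h a ha, horth _ (Or.inl rfl) y hy b hb, add_zero]
    · rw [h b hb, horth _ (Or.inr rfl) y hy a (by rwa [neg_neg]), add_zero]
  have haniso : ∀ U : Submodule F (ι → F), (∀ x ∈ U, Q x = 0) → ∀ x ∈ U, ∀ y ∈ U, polar Q x y = 0 :=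
    fun U hU x hx y hy => by simp only [polar, hU _ (add_mem hx hy), hU _ hx, hU _ hy, sub_zero]
  obtain ⟨v, hv, hv0⟩ : ∃ v ∈ W t, Q v ≠ 0 := by
    by_contra hne
    push Not at hne
    have : W t = ⊥ := eq_bot_iff.2 fun y hy => (Submodule.mem_bot F).2 (hrad y hy (haniso _ hne y hy))
    rw [this, finrank_bot] at hdim
    omega
  obtain ⟨w, hw, hw0, hvw⟩ : ∃ w ∈ W t, Q w ≠ 0 ∧ polar Q v w = 0 := by
    by_contra hne
    push Not at hne
    let p : (ι → F) → (ι → F) := fun x => x - (polar Q v x / (2 * Q v)) • v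
    have hp : ∀ x ∈ W t, p x ∈ W t ∧ polar Q v (p x) = 0 := fun x hx => by
      refine ⟨sub_mem hx (Submodule.smul_mem _ _ hv), ?_⟩
      simp only [p, polar_sub_right, polar_smul_right, polar_self, smul_eq_mul, nsmul_eq_mul, Nat.cast_ofNat]
      have := E.two
      field_simp
      ring
    have hzero : ∀ y ∈ W t, polar Q v y = 0 → Q y = 0 := fun y hy h0 => by
      by_contra h; exact hne y hy h h0
    have hflat : ∀ y ∈ W t, polar Q v y = 0 → y = 0 := fun y hy h0 => hrad y hy fun x hx => by
      obtain ⟨h1, h3⟩ := hp x hx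
      have h4 : polar Q y (p x) = 0 := by
        have e : polar Q v (y + p x) = 0 := by rw [polar_add_right, h0, h3, add_zero]
        simp only [polar, hzero _ (add_mem hy h1) e, hzero _ hy h0, hzero _ h1 h3, sub_zero]
      have h5 : x = p x + (polar Q v x / (2 * Q v)) • v := by simp [p]
      rw [h5, polar_add_right, h4, polar_smul_right, polar_comm (⇑Q) y v, h0, smul_zero, add_zero]
    have hle : W t ≤ Submodule.span F {v} := fun x hx => by
      obtain ⟨h1, h3⟩ := hp x hx
      have h6 := hflat _ h1 h3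
      simp only [p, sub_eq_zero] at h6
      rw [h6]
      exact Submodule.smul_mem _ _ (Submodule.subset_span rfl)
    have := (Submodule.finrank_mono hle).trans (finrank_span_singleton (K := F)
      (fun h : v = 0 => hv0 (by rw [h, QuadraticMap.map_zero]))).le
    omega
  exact ⟨t, v, w, (hW _ _).1 hv, (hW _ _).1 hw, hv0, hw0, hvw⟩

/-- an anisotropic vector orthogonal to its image -/
theorem exists_orth_image {g : Sim Q} (h2 : g * g = scal (mult g)) (hns : ¬ IsSquare (mult g : F)) :
    ∃ v, Q v ≠ 0 ∧ polar Q v (sv g v) = 0 := by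
  set L := ((g : GL ι F) : Matrix ι ι F).mulVecLin with hL
  let R : QuadraticForm F (ι → F) := LinearMap.BilinMap.toQuadraticMap (Q.polarBilin.compl₂ L)
  have hR : ∀ v, R v = polar Q v (sv g v) := fun v => rfl
  have hRp : ∀ v w, polar R v w = 2 * polar Q (sv g v) w := fun v w => by
    simp only [R, LinearMap.BilinMap.polar_toQuadraticMap, LinearMap.compl₂_apply, hL,
      Matrix.mulVecLin_apply, QuadraticMap.polarBilin_apply_apply]
    rw [← E.self_adjoint h2 v w, polar_comm (⇑Q) w]
    ring
  have hRn : (QuadraticMap.polarBilin R).Nondegenerate := by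
    have h1 : ∀ x, (∀ y, polar R x y = 0) → x = 0 := fun x hx => by
      have h3 : sv g x = 0 := E.nondeg.1 _ fun y => by
        have := hx y
        rw [hRp] at this
        exact (mul_eq_zero.1 this).resolve_left E.two
      rw [← sv_inv_sv g x, h3]
      exact mulVec_zero _
    exact ⟨fun x hx => h1 x fun y => hx y, fun x hx => h1 x fun y => by rw [polar_comm]; exact hx y⟩
  have h6 := E.six_le
  obtain ⟨u, hu0, hu⟩ := Orth.exists_singular E.two hRn (by omega)
  by_contra hne
  push Not at hne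
  have hzero : ∀ x, R x = 0 → Q x = 0 := fun x hx => by
    by_contra h; exact hne x h ((hR x).symm.trans hx)
  have hQu : Q u = 0 := hzero u hu
  -- `Q` vanishes on the vectors `x` with `polar Q u x = 0 ≠ polar R u x`
  have key : ∀ x, polar Q u x = 0 → polar Q (sv g u) x ≠ 0 → Q x = 0 := fun x hq hgx => by
    have hp : polar R u x ≠ 0 := by rw [hRp]; exact mul_ne_zero E.two hgx
    have h3 := hzero (x + (-(R x) / polar R u x) • u) (by
      rw [QuadraticMap.map_add (⇑R), QuadraticMap.map_smul, hu, polar_smul_right, polar_comm (⇑R) x u,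
        smul_eq_mul, smul_eq_mul, mul_zero, add_zero, div_mul_cancel₀ _ hp]
      ring)
    rw [QuadraticMap.map_add (⇑Q), QuadraticMap.map_smul, hQu, polar_smul_right, polar_comm (⇑Q) x u, hq,
      smul_eq_mul, smul_eq_mul, mul_zero, add_zero, mul_zero, add_zero] at h3
    exact h3
  obtain ⟨x0, hx0, hx1⟩ : ∃ x, polar Q u x = 0 ∧ polar Q (sv g u) x ≠ 0 := by
    by_contra hno
    push Not at hno
    obtain ⟨y, hy⟩ : ∃ y, polar Q u y ≠ 0 := by
      by_contra hy; push Not at hy; exact hu0 (E.nondeg.1 u hy)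
    have h4 : sv g u = (polar Q (sv g u) y / polar Q u y) • u := by
      refine sub_eq_zero.1 (E.nondeg.1 _ fun x => ?_)
      show polar Q _ x = 0
      have h5 := hno (x - (polar Q u x / polar Q u y) • y) (by
        rw [polar_sub_right, polar_smul_right, smul_eq_mul, div_mul_cancel₀ _ hy, sub_self])
      rw [polar_sub_right, polar_smul_right, smul_eq_mul] at h5
      rw [polar_sub_left, polar_smul_left, smul_eq_mul]
      linear_combination h5
    set k := polar Q (sv g u) y / polar Q u y
    have h5 := E.sv_sv h2 u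
    rw [h4] at h5
    have h6 : sv g (k • u) = k • sv g u := mulVec_smul _ _ _
    rw [h6, h4, smul_smul] at h5
    exact hns ⟨k, (smul_left_injective F hu0 h5).symm⟩
  let Φ : (ι → F) →ₗ[F] F × F := LinearMap.prod (Q.polarBilin u) (Q.polarBilin (sv g u))
  have hts : Cfsg.Geo.IsTotallySingularQuad ⇑Q (LinearMap.ker Φ) := fun w hw => by
    have hw1 : polar Q u w = 0 := congrArg Prod.fst hw
    have hw2 : polar Q (sv g u) w = 0 := congrArg Prod.snd hw
    have e0 := key x0 hx0 hx1
    have e1 := key (x0 + w) (by rw [polar_add_right, hx0, hw1, add_zero])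
      (by rwa [polar_add_right, hw2, add_zero])
    have e2 := key (x0 + (-1 : F) • w) (by rw [polar_add_right, polar_smul_right, hx0, hw1, smul_zero, add_zero])
      (by rwa [polar_add_right, polar_smul_right, hw2, smul_zero, add_zero])
    rw [QuadraticMap.map_add (⇑Q), e0] at e1 e2
    rw [QuadraticMap.map_smul, polar_smul_right, smul_eq_mul, smul_eq_mul] at e2
    exact (mul_eq_zero.1 (show (2 : F) * Q w = 0 by linear_combination e1 + e2)).resolve_left E.two
  have h7 := LinearMap.finrank_range_add_finrank_ker Φ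
  have h8 : finrank F ↥(LinearMap.range Φ) ≤ 2 :=
    (Submodule.finrank_le _).trans (by rw [Module.finrank_prod, Module.finrank_self])
  have h9 := two_mul_finrank_le E.two E.nondeg hts
  rw [Module.finrank_fintype_fun_eq_card] at h7
  omega

/-- a rotation of spinor norm `-1` commuting with `g` -/
theorem exists_comm_spinor_neg {g : Sim Q} (h2 : g * g = scal (mult g)) :
    ∃ p : ↥(Cfsg.isometryGroup F ⇑Q), Orth.detSign Q E.two E.nondeg p = 1 ∧ Orth.spinor Q p = -1 ∧
      g * ofIso p = ofIso p * g := by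
  suffices h : ∃ p, Orth.detSign Q E.two E.nondeg p = 1 ∧ Orth.spinor Q p = -1 ∧ E.conjS g p = p by
    obtain ⟨p, hd, hs, hp⟩ := h
    exact ⟨p, hd, hs, by rw [← mul_inv_eq_iff_eq_mul, ← E.ofIso_conjS, hp]⟩
  by_cases hsq : IsSquare (mult g : F)
  · obtain ⟨s, hs⟩ := hsq
    obtain ⟨t, v, w, hv, hw, hv0, hw0, hvw⟩ := E.exists_eigen_pair h2 hs.symm
    obtain ⟨d, hd⟩ := E.exists_nonsquare'
    obtain ⟨a, b, hab⟩ := Orth.exists_value_of_orth E.two hv0 hw0 hvw (Q v * d)
    set y := a • v + b • w with hy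
    have hy0 : Q y ≠ 0 := by rw [hab]; exact mul_ne_zero hv0 d.ne_zero
    have hgy : sv g y = t • y := by
      show ((g : GL ι F) : Matrix ι ι F) *ᵥ _ = _
      rw [hy, mulVec_add, mulVec_smul, mulVec_smul]
      show a • sv g v + b • sv g w = _
      rw [hv, hw, smul_add, smul_comm a t, smul_comm b t]
    refine ⟨Orth.refl Q v hv0 * Orth.refl Q y hy0, ?_, ?_, ?_⟩
    · rw [map_mul, Orth.detSign_refl, Orth.detSign_refl]; rfl
    · rw [map_mul, E.spinor_refl_qsign, E.spinor_refl_qsign,
        show Units.mk0 (Q y) hy0 = Units.mk0 (Q v) hv0 * d from Units.ext (by rw [Units.val_mk0, hab]; rfl),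
        map_mul, hd, neg_mul_neg, mul_neg, mul_one, mul_neg, Int.units_mul_self]
    · rw [map_mul, E.conjS_refl, E.conjS_refl]
      have h1 : ∀ z, sv g z = t • z → ∀ hz : Q z ≠ 0, ∀ hgz, Orth.refl Q (sv g z) hgz = Orth.refl Q z hz :=
        fun z hz hz0 hgz => (E.refl_congr hz hgz (hz ▸ hgz)).trans (E.refl_smul hz0 _)
      rw [h1 v hv hv0, h1 y hgy hy0]
  · obtain ⟨v, hv0, hv⟩ := E.exists_orth_image h2 hsq
    have hw0 : Q (sv g v) ≠ 0 := by rw [Q_sv]; exact mul_ne_zero (mult g).ne_zero hv0
    refine ⟨Orth.refl Q v hv0 * Orth.refl Q (sv g v) hw0, ?_, ?_, ?_⟩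
    · rw [map_mul, Orth.detSign_refl, Orth.detSign_refl]; rfl
    · rw [map_mul, E.spinor_refl_qsign, E.spinor_refl_qsign,
        show Units.mk0 (Q (sv g v)) hw0 = Units.mk0 (Q v) hv0 * mult g from
          Units.ext (by rw [Units.val_mk0, Q_sv, mul_comm]; rfl),
        map_mul, (E.qsign_neg_iff _).2 hsq, neg_mul_neg, mul_neg, mul_one, mul_neg, Int.units_mul_self]
    · rw [map_mul, E.conjS_refl, E.conjS_refl]
      have h1 : Q ((mult g : F) • v) ≠ 0 := by
        rw [QuadraticMap.map_smul, smul_eq_mul]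
        exact mul_ne_zero (mul_ne_zero (mult g).ne_zero (mult g).ne_zero) hv0
      rw [E.refl_congr (E.sv_sv h2 v) _ h1, E.refl_smul hv0 h1]
      exact (E.refl_comm hv0 hw0 hv).symm

end EvenForm

end Cfsg.Agent.Lib.POmegaDiag
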