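import Mathlib
import Cfsg.Agent.Lib.POmegaDiag.Involution
import Cfsg.Agent.Lib.POmegaDiag.Final
import Cfsg.Agent.Lib.SplitClass.Basic

/-!
Into how many classes a graph involution class splits.
-/

set_option autoImplicit false
set_option linter.style.haveILetI false
set_option linter.unusedSectionVars false

namespace Cfsg.Agent.Lib.POmegaDiag

open QuadraticMap Matrix

universe u

variable {F : Type u} [Field F] [Fintype F] {ι : Type} [Fintype ι] [DecidableEq ι]
  {Q : QuadraticForm F (ι → F)}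

namespace EvenForm

variable {n : ℕ} (E : EvenForm Q n)
include E

/-- an improper similarity does not commute with a root modulo `T` -/
theorem not_comm_root {g0 : Sim Q} (R : E.Root g0) (hspin : Orth.spinor Q (Orth.negOne Q) = 1)
    [(innPre Q).Normal] {g : Sim Q} (hg : E.proper g = -1) :
    (QuotientGroup.mk' (innPre Q)) g * (QuotientGroup.mk' (innPre Q)) g0
      ≠ (QuotientGroup.mk' (innPre Q)) g0 * (QuotientGroup.mk' (innPre Q)) g := by
  intro hc
  set π := QuotientGroup.mk' (innPre Q)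
  obtain ⟨e, he, hem⟩ : ∃ e : Sim Q, (Commute (π e) (π g0) ∧ E.proper e = 1) ∧ E.musgn (e * g) = 1 := by
    rcases Int.units_eq_one_or (E.musgn g) with h | h
    · exact ⟨1, ⟨by rw [map_one]; exact Commute.one_left _, map_one _⟩, by rw [one_mul, h]⟩
    · exact ⟨g0, ⟨Commute.refl _, R.proper⟩, by rw [map_mul, R.musgn, h, Int.units_mul_self]⟩
  obtain ⟨c, a, ha⟩ := E.exists_scal_mul hem
  have had : Orth.detSign Q E.two E.nondeg a = -1 := by
    have := congrArg E.proper ha
    rwa [map_mul, map_mul, he.2, hg, one_mul, E.proper_scal, one_mul, E.proper_ofIso, eq_comm] at this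
  have hπc : π (scal c) = 1 := (QuotientGroup.eq_one_iff _).2 (E.scal_mem_innPre c)
  have h1 : Commute (π (e * g)) (π g0) := by
    rw [map_mul]; exact he.1.mul_left hc
  rw [ha, map_mul, hπc, one_mul] at h1
  have h2 : ofIso (a * E.conjS g0 a⁻¹) ∈ innPre Q := by
    rw [← QuotientGroup.eq_one_iff, map_mul, E.ofIso_conjS, map_inv]
    show π (ofIso a * (g0 * (ofIso a)⁻¹ * g0⁻¹)) = 1
    rw [map_mul, map_mul, map_mul, map_inv, map_inv, ← mul_assoc, ← mul_assoc, h1.eq, mul_inv_cancel_right,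
      mul_inv_cancel]
  rw [E.ofIso_mem_innPre, hspin, or_self, map_mul, map_mul, E.detSign_conjS, E.spinor_conjS,
    map_inv, map_inv, had, R.musgn] at h2
  simp at h2

/-- the count is the index of `T · C(γ)` in `Inndiag` -/
theorem split_index (Qf : (ι → F) → F) (hf : ⇑Q = Qf) (P : GL ι F → Prop)
    (hP : ∀ g : Sim Q, P g ↔ g ∈ E.proper.ker) (γ : MulAut (Cfsg.POmega F Qf))
    (hγ : ∃ g : GL ι F, g ∈ Cfsg.Geo.quadSimilarityGroup (F := F) Qf ∧ ¬ P g ∧
      Cfsg.IsInducedBySemilinearPOmega Qf g (RingEquiv.refl F) γ)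
    (hγ2 : γ * γ = 1) {g0 : Sim Q} (R : E.Root g0) :
    let c := Cfsg.splitClassCount (indSub Qf P) (Cfsg.Inn (Cfsg.POmega F Qf)) γ
    (c = 1 ∨ c = 2) ∧ ((Orth.spinor Q (Orth.negOne Q) = 1 ∨ Even n) → c = 2) := by
  subst hf
  obtain ⟨g, hgQ, hgP, hgγ⟩ := hγ
  set gs : Sim Q := ⟨g, hgQ⟩
  have hγe : γ = simAut gs := (E.isInduced_iff gs γ).1 hgγ
  have hg : E.proper gs = -1 :=
    (Int.units_eq_one_or _).resolve_left fun h => hgP ((hP gs).2 (MonoidHom.mem_ker.2 h))
  obtain ⟨l, hl⟩ := E.exists_scal_of_simAut (g := gs * gs) (by rw [map_mul, ← hγe]; exact hγ2)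
  have hsq := E.sq_eq hg hl
  intro c
  set G := E.proper.ker
  set φ : ↥G →* MulAut (Cfsg.POmega F ⇑Q) := simAut.comp G.subtype
  have hr : indSub ⇑Q P = φ.range := by
    rw [MonoidHom.range_eq_map, ← Subgroup.map_map, ← MonoidHom.range_eq_map, Subgroup.range_subtype]
    exact E.autSubgroupOf_eq_map P G hP
  have hle : innPre Q ≤ G := E.innPre_le.trans inf_le_right
  have hK : Cfsg.Inn (Cfsg.POmega F ⇑Q) ≤ φ.range := hr ▸ by
    rw [show indSub ⇑Q P = G.map simAut from E.autSubgroupOf_eq_map P G hP]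
    exact E.inn_le_map R hle
  haveI : (innPre Q).Normal := inferInstance
  haveI : ((Cfsg.Inn (Cfsg.POmega F ⇑Q)).comap φ).Normal := inferInstance
  have hc : c = ((Cfsg.Inn (Cfsg.POmega F ⇑Q)).comap φ ⊔ (Subgroup.centralizer {γ}).comap φ).index := by
    show Cfsg.splitClassCount (indSub ⇑Q P) _ γ = _
    rw [hr, SplitClass.splitClassCount_range φ _ hK γ]
  set K' := (Cfsg.Inn (Cfsg.POmega F ⇑Q)).comap φ with hK'
  set C := (Subgroup.centralizer {γ}).comap φ with hC
  have hKe : K' = (innPre Q).subgroupOf G := rfl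
  have hCm : ∀ x : ↥G, x ∈ C → simAut (x : Sim Q) * simAut gs = simAut gs * simAut (x : Sim Q) := fun x hx => by
    have := Subgroup.mem_centralizer_singleton_iff.1 hx
    rwa [hγe] at this
  have hsoI : (E.soPre.subgroupOf G).index = 2 := E.relIndex_soPre_proper R
  -- at least two classes
  have hlow : (Orth.spinor Q (Orth.negOne Q) = 1 ∨ Even n) → c ≠ 1 := by
    rintro (hspin | hn) h1 <;> rw [hc, Subgroup.index_eq_one, eq_top_iff] at h1
    · set π := QuotientGroup.mk' (innPre Q)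
      have hle' : K' ⊔ C ≤ ((Subgroup.centralizer {π gs}).comap π).subgroupOf G := by
        refine sup_le (fun x hx => ?_) (fun x hx => ?_)
        · rw [Subgroup.mem_subgroupOf, Subgroup.mem_comap, Subgroup.mem_centralizer_singleton_iff,
            show π (x : Sim Q) = 1 from (QuotientGroup.eq_one_iff _).2 hx, one_mul, mul_one]
        · rw [Subgroup.mem_subgroupOf, Subgroup.mem_comap, Subgroup.mem_centralizer_singleton_iff]
          obtain ⟨d, hd⟩ := E.exists_scal_of_simAut (g := (x : Sim Q) * gs * (gs * x)⁻¹)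
            (by rw [map_mul, map_inv, map_mul, map_mul, hCm x hx, mul_inv_cancel])
          rw [mul_inv_eq_iff_eq_mul] at hd
          rw [← map_mul, hd, map_mul π (scal d), show π (scal d) = 1 from
            (QuotientGroup.eq_one_iff _).2 (E.scal_mem_innPre d), one_mul, map_mul]
      have h3 := hle' (h1 (Subgroup.mem_top (⟨g0, MonoidHom.mem_ker.2 R.proper⟩ : ↥G)))
      rw [Subgroup.mem_subgroupOf, Subgroup.mem_comap, Subgroup.mem_centralizer_singleton_iff] at h3
      exact E.not_comm_root R hspin hg h3.symm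
    · have hle' : K' ⊔ C ≤ E.soPre.subgroupOf G := by
        refine sup_le (fun x hx => E.innPre_le hx) (fun x hx => ?_)
        exact ⟨MonoidHom.mem_ker.2 (E.musgn_of_comm hn hg hsq (hCm x hx)), x.2⟩
      have h3 := Subgroup.index_dvd_of_le hle'
      rw [hsoI, Subgroup.index_eq_one.2 (eq_top_iff.2 h1)] at h3
      omega
  -- at most two classes
  have hhigh : c ∣ 2 := by
    rw [hc]
    rcases Int.units_eq_one_or (Orth.spinor Q (Orth.negOne Q)) with hspin | hspin
    · have hle' : E.soPre.subgroupOf G ≤ K' ⊔ C := by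
        obtain ⟨p, hpd, hps, hpg⟩ := E.exists_comm_spinor_neg hsq
        have hpG : ofIso p ∈ G := MonoidHom.mem_ker.2 ((E.proper_ofIso p).trans hpd)
        have hpC : (⟨ofIso p, hpG⟩ : ↥G) ∈ C := Subgroup.mem_centralizer_singleton_iff.2 (by
          show simAut (ofIso p) * γ = γ * simAut (ofIso p)
          rw [hγe, ← map_mul, ← map_mul, hpg])
        intro x hx
        obtain ⟨d, a, hxa, ha⟩ := E.exists_so (g := (x : Sim Q)) hx
        rcases Int.units_eq_one_or (Orth.spinor Q a) with hs | hs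
        · refine Subgroup.mem_sup_left (show (x : Sim Q) ∈ innPre Q from ?_)
          rw [hxa, E.scal_mul_mem_innPre]
          exact ⟨ha, Or.inl hs⟩
        · have hy : x * (⟨ofIso p, hpG⟩ : ↥G)⁻¹ ∈ K' := by
            show (x : Sim Q) * (ofIso p)⁻¹ ∈ innPre Q
            rw [hxa, mul_assoc, ← map_inv, ← map_mul, E.scal_mul_mem_innPre, map_mul, map_mul, map_inv,
              map_inv, ha, hpd, hs, hps]
            simp
          have := mul_mem (Subgroup.mem_sup_left (T := C) hy) (Subgroup.mem_sup_right hpC)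
          rwa [inv_mul_cancel_right] at this
      exact hsoI ▸ Subgroup.index_dvd_of_le hle'
    · refine hsoI ▸ Subgroup.index_dvd_of_le (le_sup_of_le_left ?_)
      rw [hKe, E.innPre_eq_of_spinor_negOne hspin]
  rcases (Nat.dvd_prime Nat.prime_two).1 hhigh with h | h
  · exact ⟨Or.inl h, fun hh => absurd h (hlow hh)⟩
  · exact ⟨Or.inr h, fun _ => h⟩

end EvenForm

theorem split_plus (hodd : Odd (Fintype.card F)) {m : ℕ} (hm : 3 ≤ m)
    (γ : MulAut (Cfsg.POmega F (Cfsg.quadFormPlus m F)))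
    (hγ : Cfsg.IsSimilarityGraphAutPOmegaPlus m γ) (hγ2 : orderOf γ = 2) :
    (Cfsg.splitClassCount (Cfsg.inndiagPOmegaPlus m F) (Cfsg.Inn (Cfsg.POmega F (Cfsg.quadFormPlus m F))) γ = 1 ∨
      Cfsg.splitClassCount (Cfsg.inndiagPOmegaPlus m F) (Cfsg.Inn (Cfsg.POmega F (Cfsg.quadFormPlus m F))) γ = 2) ∧
    (¬ (Odd m ∧ Fintype.card F % 4 = 3) →
      Cfsg.splitClassCount (Cfsg.inndiagPOmegaPlus m F) (Cfsg.Inn (Cfsg.POmega F (Cfsg.quadFormPlus m F))) γ = 2) := by
  obtain ⟨g0, R⟩ := (plus_data (F := F) hodd hm).1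
  have h := (plus_even hodd hm).split_index (Cfsg.quadFormPlus m F) (Classical.coe_plusForm m)
    (fun g => Cfsg.PreservesSingularClasses (Cfsg.quadFormPlus m F) (g : Matrix (Fin m ⊕ Fin m) (Fin m ⊕ Fin m) F))
    (fun g => by rw [← Classical.coe_plusForm]; exact plus_preserves hodd hm g)
    γ hγ (by rw [← pow_two, ← hγ2]; exact pow_orderOf_eq_one γ) R
  exact ⟨h.1, fun hc => h.2 (Or.inl ((plus_spinor hodd hm).2 hc))⟩

end Cfsg.Agent.Lib.POmegaDiag
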