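import Mathlib
import Cfsg.Agent.Lib.POmegaDiag.Graph
import Cfsg.Agent.Lib.POmegaAut.Pairs
import Cfsg.Agent.Lib.POmegaAut.Families

/-!
An automorphism of order two of the minus group is induced by a similarity.
-/

set_option autoImplicit false
set_option linter.style.haveILetI false
set_option linter.unusedSectionVars false

namespace Cfsg.Agent.Lib.POmegaDiag

open QuadraticMap Matrix

universe u

variable {F : Type u} [Field F] [Fintype F]

/-- an element fixed by a field involution is a square -/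
theorem isSquare_of_fixed (h2 : (2 : F) ≠ 0) {σ : F ≃+* F} (hσ : ∀ x, σ (σ x) = x) (hne : σ ≠ 1) {x : F}
    (hx : σ x = x) : IsSquare x := by
  obtain ⟨u, hu⟩ : ∃ u, σ u ≠ u := by
    by_contra h
    push Not at h
    exact hne (RingEquiv.ext h)
  set e := u - σ u
  have he0 : e ≠ 0 := sub_ne_zero.2 (Ne.symm hu)
  have he : σ e = -e := by simp [e, map_sub, hσ]
  set K := RingHom.eqLocusField σ.toRingHom (RingHom.id F) with hK
  haveI : Fintype ↥K := Fintype.ofFinite _
  classical
  set xk : ↥K := ⟨x, hx⟩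
  set ek : ↥K := ⟨e * e, show σ (e * e) = e * e by rw [map_mul, he, neg_mul_neg]⟩
  by_cases hsx : IsSquare xk
  · obtain ⟨r, hr⟩ := hsx
    exact ⟨r.1, congrArg Subtype.val hr⟩
  have hse : ¬ IsSquare ek := by
    rintro ⟨r, hr⟩
    have h1 : e * e = r.1 * r.1 := congrArg Subtype.val hr
    have hr' : σ r.1 = r.1 := r.2
    rcases mul_self_eq_mul_self_iff.1 h1 with h | h <;>
    · have h3 : σ e = e := by rw [h]; simp [map_neg, hr']
      rw [he] at h3
      exact he0 ((mul_eq_zero.1 (show (2 : F) * e = 0 by linear_combination -h3)).resolve_left h2)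
  have hch : ringChar ↥K ≠ 2 := fun h => h2 (by
    have h' : ((2 : ℕ) : ↥K) = 0 := (ringChar.spec ↥K 2).2 (by rw [h])
    exact congrArg Subtype.val (show (2 : ↥K) = 0 by simpa using h'))
  obtain ⟨r, hr⟩ : IsSquare (xk * ek) := by
    have hx0 : xk * ek ≠ 0 := mul_ne_zero (fun h => hsx (h ▸ IsSquare.zero)) (fun h => hse (h ▸ IsSquare.zero))
    rw [← quadraticChar_one_iff_isSquare hx0, map_mul,
      quadraticChar_neg_one_iff_not_isSquare.2 hsx, quadraticChar_neg_one_iff_not_isSquare.2 hse]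
    rfl
  refine ⟨r.1 / e, ?_⟩
  have h1 : x * (e * e) = r.1 * r.1 := congrArg Subtype.val hr
  field_simp
  linear_combination h1

variable {ι : Type} [Fintype ι] [DecidableEq ι] {Q : QuadraticForm F (ι → F)}

theorem EvenForm.sig_eq_one {n : ℕ} (E : EvenForm Q n) (S : POmegaAut.Setting Q) (p : POmegaAut.SPair ⇑Q)
    (hp : p.aut * p.aut = 1)
    (hD : IsSquare (-1 : F) → ¬ IsSquare (LinearMap.toMatrix₂' F Q.polarBilin).det) : p.sig = 1 := by
  by_contra hne
  rw [← POmegaAut.SPair.aut_mul, POmegaAut.SPair.aut_eq_one_iff S] at hp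
  obtain ⟨c, hc⟩ := hp
  have hσσ : p.sig * p.sig = 1 := congrArg POmegaAut.SPair.sig hc
  have hσ : ∀ x, p.sig (p.sig x) = x := fun x => DFunLike.congr_fun hσσ x
  have hg : p.g * POmegaAut.gmap p.sig p.g = Matrix.GeneralLinearGroup.scalar ι c :=
    congrArg POmegaAut.SPair.g hc
  set μ := (p.mult : F)
  set d := (p.g : Matrix ι ι F).det with hd
  have hdd : d * p.sig d = (c : F) ^ (2 * n) := by
    have h := congrArg (fun x : GL ι F => (x : Matrix ι ι F).det) hg
    simp only [Units.val_mul, det_mul, Matrix.GeneralLinearGroup.coe_scalar, Matrix.scalar_apply, det_diagonal,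
      Finset.prod_const, Finset.card_univ, E.dim] at h
    rw [← h]
    exact congrArg (d * ·) (RingHom.map_det p.sig.toRingHom _)
  have hμ : μ * p.sig μ = (c : F) * c := by
    obtain ⟨v, hv⟩ := E.exists_ne
    have h1 : p.map (p.map v) = (c : F) • v := by
      rw [← POmegaAut.SPair.mul_map, hc, POmegaAut.SPair.map_apply]
      show (Matrix.GeneralLinearGroup.scalar ι c : Matrix ι ι F) *ᵥ v = _
      funext i
      simp [Matrix.GeneralLinearGroup.coe_scalar, Matrix.scalar_apply, mulVec_diagonal]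
    have h3 := congrArg ⇑Q h1
    rw [p.map_form, p.map_form, map_mul, hσ, QuadraticMap.map_smul, smul_eq_mul, ← mul_assoc] at h3
    exact mul_right_cancel₀ hv h3
  set B := LinearMap.toMatrix₂' F Q.polarBilin with hB
  have hform : (p.g : Matrix ι ι F)ᵀ * B * (p.g : Matrix ι ι F) = μ • B.map p.sig := by
    have hpol : ∀ u v, polar Q (p.map u) (p.map v) = μ * p.sig (polar Q u v) := fun u v => by
      simp only [polar, ← map_add, p.map_form, map_sub]
      ring
    have hs : ∀ i : ι, p.map (Pi.single i (1 : F)) = (p.g : Matrix ι ι F) *ᵥ Pi.single i 1 := fun i => by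
      rw [p.map_apply]
      congr 1
      funext k
      rcases eq_or_ne k i with rfl | h <;> simp [*]
    ext i j
    rw [Matrix.smul_apply, Matrix.map_apply, hB, LinearMap.toMatrix₂'_apply, QuadraticMap.polarBilin_apply_apply,
      smul_eq_mul, ← hpol, hs, hs]
    have h4 := LinearMap.toMatrix₂'_compl₁₂ (R := F) Q.polarBilin (Matrix.toLin' (p.g : Matrix ι ι F))
      (Matrix.toLin' (p.g : Matrix ι ι F))
    rw [LinearMap.toMatrix'_toLin'] at h4
    rw [← h4, LinearMap.toMatrix₂'_apply]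
    simp only [LinearMap.compl₁₂_apply, Matrix.toLin'_apply, QuadraticMap.polarBilin_apply_apply]
  have hD0 : B.det ≠ 0 := fun h => by
    obtain ⟨v, hv0, hv⟩ := Matrix.exists_mulVec_eq_zero_iff.2 h
    refine hv0 (E.nondeg.2 v fun w => ?_)
    rw [← Matrix.toLinearMap₂'_toMatrix' (R := F) Q.polarBilin, Matrix.toLinearMap₂'_apply', ← hB, hv,
      dotProduct_zero]
  have hdet := congrArg Matrix.det hform
  rw [det_mul, det_mul, det_transpose, det_smul, E.dim, ← RingEquiv.coe_toRingHom, ← RingHom.mapMatrix_apply,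
    ← RingHom.map_det, RingEquiv.coe_toRingHom, ← hd] at hdet
  set t := d / μ ^ n with ht
  have hμ0 : μ ≠ 0 := p.mult.ne_zero
  have hμ0' : p.sig μ ≠ 0 := (map_ne_zero p.sig).2 hμ0
  have htD : p.sig B.det = t * t * B.det := by
    rw [ht]
    field_simp
    linear_combination -hdet
  have htt : t * p.sig t = 1 := by
    rw [ht, map_div₀, map_pow, div_mul_div_comm, ← mul_pow, hμ, hdd, pow_mul, pow_two,
      div_self (pow_ne_zero _ (mul_ne_zero c.ne_zero c.ne_zero))]
  obtain ⟨s, hs0, hs⟩ : ∃ s, s ≠ 0 ∧ t * p.sig s = s := by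
    obtain ⟨u, hu⟩ : ∃ u, u + t * p.sig u ≠ 0 := by
      by_contra h
      push Not at h
      have h1 : t = -1 := by
        have := h 1
        rw [map_one, mul_one] at this
        linear_combination this
      refine hne (RingEquiv.ext fun x => ?_)
      have := h x
      rw [h1] at this
      show p.sig x = x
      linear_combination -this
    exact ⟨_, hu, by rw [map_add, map_mul, hσ, mul_add, ← mul_assoc, htt, one_mul, add_comm]⟩
  have hfix : p.sig (B.det * (s * s)) = B.det * (s * s) := by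
    rw [map_mul, map_mul, htD]
    linear_combination B.det * (t * p.sig s + s) * hs
  obtain ⟨r, hr⟩ := isSquare_of_fixed E.two hσ hne hfix
  exact hD (isSquare_of_fixed E.two hσ hne (by rw [map_neg, map_one]))
    ⟨r / s, by field_simp; linear_combination hr⟩

theorem minus_disc {m : ℕ} {a b : F} (hodd : Odd (Fintype.card F)) (hab : Classical.BinAniso a b)
    (h1 : IsSquare (-1 : F)) :
    ¬ IsSquare (LinearMap.toMatrix₂' F (Classical.minusForm m F a b).polarBilin).det := by
  have hB : LinearMap.toMatrix₂' F (Classical.minusForm m F a b).polarBilin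
      = Matrix.fromBlocks (Matrix.fromBlocks (0 : Matrix (Fin m) (Fin m) F) (1 : Matrix (Fin m) (Fin m) F)
          (1 : Matrix (Fin m) (Fin m) F) 0) 0 0 !![2, a; a, 2 * b] := by
    ext i j
    rw [LinearMap.toMatrix₂'_apply, QuadraticMap.polarBilin_apply_apply, polar_minus,
      Classical.OrderBound.polar_binQ]
    rcases i with (i | i) | i <;> rcases j with (j | j) | j
    all_goals first
      | (simp [Pi.single_apply, Matrix.one_apply, eq_comm]; done)
      | (fin_cases i <;> fin_cases j <;> simp; done)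
      | (fin_cases i <;> simp [Pi.single_apply]; done)
      | (fin_cases j <;> simp [Pi.single_apply]; done)
  rw [hB, det_fromBlocks_zero₂₁, det_fin_two_of]
  set δ := (Matrix.fromBlocks (0 : Matrix (Fin m) (Fin m) F) (1 : Matrix (Fin m) (Fin m) F)
    (1 : Matrix (Fin m) (Fin m) F) 0).det
  have hδ : δ * δ = 1 := by
    rw [← det_mul, fromBlocks_multiply]
    simp
  rintro ⟨r, hr⟩
  refine not_isSquare_disc hodd hab ?_
  obtain ⟨i, hi⟩ := h1
  rcases mul_self_eq_one_iff.1 hδ with h | h <;> rw [h] at hr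
  · exact ⟨i * r, by linear_combination -hr + (r * r) * hi⟩
  · exact ⟨r, by linear_combination hr⟩

theorem split_minus (hodd : Odd (Fintype.card F)) {m : ℕ} (hm : 3 ≤ m) {a b : F}
    (hab : Classical.BinAniso a b) (γ : MulAut (Cfsg.POmega F (Cfsg.quadFormMinus m F a b)))
    (hγ : Cfsg.IsGraphAutClassPOmegaMinus m a b γ) (hγ2 : orderOf γ = 2) :
    (Cfsg.splitClassCount (Cfsg.inndiagPOmegaMinus m F a b) (Cfsg.Inn (Cfsg.POmega F (Cfsg.quadFormMinus m F a b))) γ = 1 ∨
      Cfsg.splitClassCount (Cfsg.inndiagPOmegaMinus m F a b) (Cfsg.Inn (Cfsg.POmega F (Cfsg.quadFormMinus m F a b))) γ = 2) ∧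
    (¬ (Even m ∧ Fintype.card F % 4 = 1) →
      Cfsg.splitClassCount (Cfsg.inndiagPOmegaMinus m F a b) (Cfsg.Inn (Cfsg.POmega F (Cfsg.quadFormMinus m F a b))) γ = 2) := by
  obtain ⟨g0, R⟩ := (minus_data hodd hm hab).1
  have hsim : ∃ g : GL ((Fin m ⊕ Fin m) ⊕ Fin 2) F,
      g ∈ Cfsg.Geo.quadSimilarityGroup (F := F) (Cfsg.quadFormMinus m F a b) ∧
        Cfsg.IsInducedBySemilinearPOmega (Cfsg.quadFormMinus m F a b) g (RingEquiv.refl F) γ := by
    suffices key : ∀ Qf, ⇑(Classical.minusForm m F a b) = Qf → ∀ γ : MulAut (Cfsg.POmega F Qf), γ * γ = 1 →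
        ∃ g : GL ((Fin m ⊕ Fin m) ⊕ Fin 2) F, g ∈ Cfsg.Geo.quadSimilarityGroup (F := F) Qf ∧
          Cfsg.IsInducedBySemilinearPOmega Qf g (RingEquiv.refl F) γ from
      key _ (Classical.coe_minusForm m a b) γ (by have h := pow_orderOf_eq_one γ; rwa [hγ2, pow_two] at h)
    rintro Qf rfl γ h
    have S := POmegaAut.setting_minus hab hm
    obtain ⟨p, rfl⟩ := S.exists_induced γ
    have hs := (minus_even hodd hm hab).sig_eq_one S p h (minus_disc hodd hab)
    refine ⟨p.g, ⟨p.mult, fun v => ?_⟩, ?_⟩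
    · have := p.map_form v
      rw [p.map_apply, hs] at this
      exact this
    · show Cfsg.IsInducedBySemilinearPOmega _ p.g (1 : F ≃+* F) p.aut
      rw [← hs]
      exact (p.isInduced_iff _).2 rfl
  obtain ⟨g, hgQ, hgγ⟩ := hsim
  have hgP : ¬ Cfsg.PreservesSingularClassesMinus m a b
      (g : Matrix ((Fin m ⊕ Fin m) ⊕ Fin 2) ((Fin m ⊕ Fin m) ⊕ Fin 2) F) := fun hP =>
    hγ.2.1 (Subgroup.subset_closure ⟨g, hgQ, hP, hgγ⟩)
  have h := (minus_even hodd hm hab).split_index (Cfsg.quadFormMinus m F a b) (Classical.coe_minusForm m a b)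
    (fun g => Cfsg.PreservesSingularClassesMinus m a b
      (g : Matrix ((Fin m ⊕ Fin m) ⊕ Fin 2) ((Fin m ⊕ Fin m) ⊕ Fin 2) F)) (minus_preserves hodd hm hab)
    γ ⟨g, hgQ, hgP, hgγ⟩ (by have h := pow_orderOf_eq_one γ; rwa [hγ2, pow_two] at h) R
  refine ⟨h.1, fun hc => h.2 ?_⟩
  rcases Nat.even_or_odd m with he | ho
  · refine Or.inl ((minus_spinor hodd hm hab).1 ⟨he, ?_⟩)
    have : ¬ Fintype.card F % 4 = 1 := fun h1 => hc ⟨he, h1⟩
    obtain ⟨k, hk⟩ := hodd
    omega
  · exact Or.inr ho.add_one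

end Cfsg.Agent.Lib.POmegaDiag
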